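import Cfsg.Agent.H520.RC.SpDefs
import Cfsg.Agent.H749.Herm
import Cfsg.Agent.H450.UF.Count

/-!
# S3510, row D: the hermitian form of a symplectic form with a skew field generator (helper8)

`K / F` quadratic with conjugation `σ`, `t² = δ`, `σ t = -t`; `V` a `K`-space, `B (t u) v = - B u (t v)`.
`hf B t u v = B (t u) v + t * B u v` is a nondegenerate hermitian form over `K`.
-/

set_option autoImplicit false
set_option linter.unusedSectionVars false
open Cfsg

namespace Cfsg.Agent.H8.RC

open Module Cfsg.Agent.H749 Cfsg.Agent.H520.RC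

/-- a quadratic extension with a skew generator -/
structure Quad (F K : Type*) [Field F] [Field K] [Algebra F K] (σ : K →+* K) (t : K) : Prop where
  fix : ∀ a : F, σ (algebraMap F K a) = algebraMap F K a
  neg : σ t = -t
  dec : ∀ k : K, ∃ a b : F, k = algebraMap F K a + algebraMap F K b * t
  ind : ∀ a b : F, algebraMap F K a + algebraMap F K b * t = 0 → a = 0 ∧ b = 0
  sq : ∃ δ : F, t * t = algebraMap F K δ

variable {F K V : Type*} [Field F] [Field K] [Algebra F K] [AddCommGroup V] [Module F V] [Module K V]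
  [IsScalarTower F K V] {B : LinearMap.BilinForm F V} {σ : K →+* K} {t : K}

/-- the hermitian form -/
def hf (B : LinearMap.BilinForm F V) (t : K) (u v : V) : K := algebraMap F K (B (t • u) v) + t * algebraMap F K (B u v)

namespace Quad

theorem invol (hQ : Quad F K σ t) (k : K) : σ (σ k) = k := by
  obtain ⟨a, b, rfl⟩ := hQ.dec k
  rw [map_add, map_mul, hQ.fix, hQ.fix, hQ.neg, map_add, map_mul, map_neg, hQ.fix, hQ.fix, hQ.neg, neg_neg]

theorem t_ne (hQ : Quad F K σ t) : t ≠ 0 := by
  intro h
  have h1 := hQ.ind 0 1 (by rw [h, map_zero, mul_zero, zero_add])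
  exact one_ne_zero h1.2

theorem ne_id (hQ : Quad F K σ t) (h2 : (2 : F) ≠ 0) : σ ≠ RingHom.id K := by
  intro h
  have h1 := hQ.neg
  rw [h, RingHom.id_apply] at h1
  have h3 : (algebraMap F K 2) * t = 0 := by
    rw [map_ofNat]
    linear_combination h1
  rcases mul_eq_zero.1 h3 with h4 | h4
  · exact h2 ((map_eq_zero (algebraMap F K)).1 h4)
  · exact hQ.t_ne h4

/-- the elements fixed by `σ` -/
theorem mem_of_fix (hQ : Quad F K σ t) (h2 : (2 : F) ≠ 0) {k : K} (h : σ k = k) : ∃ a : F, k = algebraMap F K a := by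
  obtain ⟨a, b, rfl⟩ := hQ.dec k
  rw [map_add, map_mul, hQ.fix, hQ.fix, hQ.neg] at h
  have h3 : algebraMap F K 0 + algebraMap F K (2 * b) * t = 0 := by
    rw [map_zero, map_mul, map_ofNat]
    linear_combination -h
  have h4 := (hQ.ind _ _ h3).2
  rcases mul_eq_zero.1 h4 with h5 | h5
  · exact absurd h5 h2
  · exact ⟨a, by rw [h5, map_zero, zero_mul, add_zero]⟩

end Quad

theorem hf_add (u u' v : V) : hf B t (u + u') v = hf B t u v + hf B t u' v := by
  unfold hf
  rw [smul_add, map_add, map_add, LinearMap.add_apply, LinearMap.add_apply, map_add, map_add]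
  ring

theorem hf_fsmul (a : F) (u v : V) : hf B t (a • u) v = algebraMap F K a * hf B t u v := by
  unfold hf
  have h1 : t • a • u = a • t • u := by
    rw [← algebraMap_smul K a u, ← algebraMap_smul K a (t • u), smul_smul, smul_smul, mul_comm]
  rw [h1, LinearMap.map_smul B a (t • u), LinearMap.map_smul B a u, LinearMap.smul_apply, LinearMap.smul_apply,
    smul_eq_mul, smul_eq_mul, map_mul, map_mul]
  ring

theorem hf_tsmul (hQ : Quad F K σ t) (u v : V) : hf B t (t • u) v = t * hf B t u v := by
  obtain ⟨δ, hδ⟩ := hQ.sq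
  unfold hf
  rw [smul_smul, hδ, algebraMap_smul, LinearMap.map_smul B δ u, LinearMap.smul_apply, smul_eq_mul, map_mul]
  linear_combination (-(algebraMap F K (B u v))) * hδ

/-- **The hermitian form.** -/
theorem hermF (hB : NAlt B) (hQ : Quad F K σ t) (hs : ∀ u v : V, B (t • u) v = - B u (t • v)) :
    HermF σ (hf B t : V → V → K) where
  add := hf_add
  smul c u v := by
    obtain ⟨a, b, rfl⟩ := hQ.dec c
    rw [add_smul, mul_smul, hf_add, algebraMap_smul, algebraMap_smul, hf_fsmul, hf_fsmul, hf_tsmul hQ]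
    ring
  symm u v := by
    unfold hf
    rw [map_add, map_mul, hQ.fix, hQ.fix, hQ.neg, hs v u, hB.swap v (t • u), hB.swap v u, neg_neg, map_neg]
    ring
  nd u h := by
    refine hB.nd u fun v => ?_
    have h1 := h v
    unfold hf at h1
    rw [mul_comm] at h1
    exact (hQ.ind _ _ h1).2

/-- the components of the form -/
theorem eq_of_hf (hQ : Quad F K σ t) {u v u' v' : V} (h : hf B t u v = hf B t u' v') : B u v = B u' v' := by
  unfold hf at h
  have h1 : algebraMap F K (B (t • u) v - B (t • u') v') + algebraMap F K (B u v - B u' v') * t = 0 := by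
    rw [map_sub, map_sub]
    linear_combination h
  exact sub_eq_zero.1 (hQ.ind _ _ h1).2

/-- a `K`-linear isometry of the hermitian form is an isometry of `B` -/
def isoSp (hQ : Quad F K σ t) : Iso (hf B t : V → V → K) →* Sp B where
  toFun g := ⟨(g : V ≃ₗ[K] V).restrictScalars F, fun u v => eq_of_hf hQ (g.2 u v)⟩
  map_one' := rfl
  map_mul' _ _ := rfl

theorem isoSp_apply (hQ : Quad F K σ t) (g : Iso (hf B t : V → V → K)) (v : V) :
    (isoSp hQ g).1 v = (g : V ≃ₗ[K] V) v := rfl

theorem isoSp_injective (hQ : Quad F K σ t) : Function.Injective (isoSp (B := B) (V := V) hQ) := by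
  intro g g' h
  apply Subtype.ext
  apply LinearEquiv.ext
  intro v
  exact congrArg (fun s : Sp B => s.1 v) h

end Cfsg.Agent.H8.RC
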