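import Cfsg.Agent.H8.RC.Herm
import Cfsg.Agent.H380.RC.MAb
import Cfsg.Agent.H452.RC.SUTwo
import Cfsg.Agent.H520.RC.SpId

/-!
# S3510, row D: the M-rule for `SU(V)` inside `Sp(V)` (helper8)

* `exists_SU` : the embedding `SU n K q → Sp B`;
* `klin`, `conj_klin` : lifts commuting with `t` are `K`-linear and normalise `SU`;
* `scal_of_comm` : a `K`-linear map commuting with `SU` is a `K`-scalar.
-/

set_option autoImplicit false
set_option linter.unusedSectionVars false
open Cfsg

namespace Cfsg.Agent.H8.RC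

open Module MulAction Cfsg.Agent.H749 Cfsg.Agent.H520.RC Cfsg.Agent.H106.RC
open Cfsg.Agent.ClassicalGeometry.PSUAutBasic

variable {F K V : Type*} [Field F] [Field K] [Algebra F K] [AddCommGroup V] [Module F V] [Module K V]
  [IsScalarTower F K V] {B : LinearMap.BilinForm F V} {σ : K →+* K} {t : K}

/-- the determinant -/
noncomputable abbrev dt (g : V ≃ₗ[K] V) : K := LinearMap.det g.toLinearMap

section emb

variable [Fintype K] [FiniteDimensional K V] {q n : ℕ}

/-- **The embedding of `SU`.** -/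
theorem exists_SU (hB : NAlt B) (hQ : Quad F K σ t) (h2 : (2 : F) ≠ 0) (hs : ∀ u v : V, B (t • u) v = - B u (t • v))
    (hK : Fintype.card K = q ^ 2) (hn : finrank K V = n) :
    ∃ j : SU n K q →* Sp B, Function.Injective j ∧
      (∀ s, ∃ g : V ≃ₗ[K] V, g ∈ Iso (hf B t : V → V → K) ∧ dt g = 1 ∧ ∀ v, (j s).1 v = g v) ∧
      ∀ g : V ≃ₗ[K] V, g ∈ Iso (hf B t : V → V → K) → dt g = 1 → ∃ s, ∀ v, (j s).1 v = g v := by
  have hσ := H450.UF.sig_eq hK (hQ.ne_id h2) hQ.invol
  have hH := hermF hB hQ hs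
  obtain ⟨j, hj⟩ := hH.exists_iso (hQ.ne_id h2) hQ.invol hσ hn
  have hS : SimF j (hermForm n K q) (hf B t : V → V → K) 1 := ⟨one_ne_zero, fun x y => by rw [one_mul]; exact hj x y⟩
  refine ⟨(isoSp hQ).comp ((detKer (hf B t : V → V → K)).subtype.comp (slEquiv hS).toMonoidHom), ?_, ?_, ?_⟩
  · intro a b h
    apply (slEquiv hS).injective
    apply Subtype.ext
    exact isoSp_injective hQ h
  · intro s
    exact ⟨_, (slEquiv hS s).1.2, mem_detKer.1 (slEquiv hS s).2, fun v => rfl⟩
  · intro g hg hd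
    obtain ⟨s, hs'⟩ := (slEquiv hS).surjective ⟨⟨g, hg⟩, mem_detKer.2 hd⟩
    refine ⟨s, fun v => ?_⟩
    show (((slEquiv hS s : detKer (hf B t : V → V → K)) : Iso (hf B t : V → V → K)) : V ≃ₗ[K] V) v = g v
    rw [hs']

end emb

section klin

/-- a linear lift commuting with `t` -/
def klin (hQ : Quad F K σ t) (M : SS B) (hl : M.IsLin) (hc : ∀ v, M (t • v) = t • M v) : V ≃ₗ[K] V :=
  { M.f with
    map_smul' := fun c v => by
      obtain ⟨a, b, rfl⟩ := hQ.dec c
      show M _ = _ • M v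
      rw [RingHom.id_apply, add_smul, mul_smul, M.map_add, algebraMap_smul, algebraMap_smul, hl.map_smul,
        hl.map_smul, hc, add_smul, mul_smul, algebraMap_smul, algebraMap_smul] }

variable (hQ : Quad F K σ t) (M : SS B) (hl : M.IsLin) (hc : ∀ v, M (t • v) = t • M v)

theorem klin_apply (v : V) : klin hQ M hl hc v = M v := rfl

include hl hc in
theorem hf_lift (u v : V) : hf B t (M u) (M v) = algebraMap F K M.l * hf B t u v := by
  unfold hf
  rw [← hc, hl.form, hl.form, map_mul, map_mul]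
  ring

include hQ hl hc in
/-- conjugates of isometries -/
theorem conj_klin {g : V ≃ₗ[K] V} (hg : g ∈ Iso (hf B t : V → V → K)) (hd : dt g = 1) :
    ∃ g' : V ≃ₗ[K] V, g' ∈ Iso (hf B t : V → V → K) ∧ dt g' = 1 ∧ ∀ v, g' (M v) = M (g v) := by
  let m := klin hQ M hl hc
  refine ⟨(m.symm.trans g).trans m, ?_, ?_, ?_⟩
  · intro u v
    obtain ⟨u, rfl⟩ := m.surjective u
    obtain ⟨v, rfl⟩ := m.surjective v
    show hf B t (M (g (m.symm (m u)))) (M (g (m.symm (m v)))) = hf B t (M u) (M v)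
    rw [m.symm_apply_apply, m.symm_apply_apply, hf_lift M hl hc, hf_lift M hl hc, hg u v]
  · have h := LinearMap.det_conj g.toLinearMap m
    exact h.trans hd
  · intro v
    show M (g (m.symm (m v))) = M (g v)
    rw [m.symm_apply_apply]

end klin

end Cfsg.Agent.H8.RC
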